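import Mathlib
import Groth.Prelude.Def_EtRam
import Groth.Agent.S7132
import Groth.Agent.Lib.Helper9.KADominates
import Groth.Agent.Lib.Helper48.NagataNormalization2

/-!
# Purely inseparable degree `p` steps over DVRs: basic lemmas (helper9)
-/

set_option autoImplicit false
universe u

open IsLocalRing Polynomial
open IsDiscreteValuationRing hiding maximalIdeal

namespace Groth.Agent.Lib.Helper9.PInsep

section Ram

variable {A B : Type u} [CommRing A] [IsDomain A] [IsDiscreteValuationRing A]
  [CommRing B] [IsDomain B] [IsDiscreteValuationRing B] [Algebra A B]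

/-- the ramification index is the valuation of the image of a uniformizer. -/
theorem ramificationIdx'_eq (hinj : Function.Injective (algebraMap A B))
    {ϖA : A} (hA : Irreducible ϖA) (e : ℕ) (he : addVal B (algebraMap A B ϖA) = e) :
    Ideal.ramificationIdx' (maximalIdeal A) (maximalIdeal B) = e := by
  obtain ⟨ϖB, hB⟩ := IsDiscreteValuationRing.exists_irreducible B
  have hmA : maximalIdeal A = Ideal.span {ϖA} := hA.maximalIdeal_eq
  have hmB : maximalIdeal B = Ideal.span {ϖB} := hB.maximalIdeal_eq
  have hpowval : ∀ n : ℕ, addVal B (ϖB ^ n) = n := by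
    intro n
    rw [addVal_pow, addVal_uniformizer hB]
    simp
  have hle : ∀ n : ℕ, Ideal.map (algebraMap A B) (maximalIdeal A) ≤ maximalIdeal B ^ n ↔
      n ≤ e := by
    intro n
    rw [hmA, hmB, Ideal.map_span, Set.image_singleton, Ideal.span_singleton_pow,
      Ideal.span_singleton_le_span_singleton, ← addVal_le_iff_dvd, hpowval, he]
    exact Nat.cast_le
  exact Ideal.ramificationIdx'_spec ((hle e).mpr le_rfl) (by rw [hle]; omega)

/-- if the ramification index equals the degree then the residue fields agree. -/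
theorem residue_surjective_of_addVal_eq_finrank (K L : Type u)
    (hinj : Function.Injective (algebraMap A B)) [IsLocalHom (algebraMap A B)]
    [Field K] [Field L] [Algebra A K] [IsFractionRing A K] [Algebra B L] [IsFractionRing B L]
    [Algebra K L] [Algebra A L] [IsScalarTower A K L] [IsScalarTower A B L]
    [FiniteDimensional K L] {ϖA : A} (hA : Irreducible ϖA)
    (he : addVal B (algebraMap A B ϖA) = (Module.finrank K L : ℕ)) (b : B) :
    ∃ a : A, b - algebraMap A B a ∈ maximalIdeal B := by
  obtain ⟨hfin, hle⟩ := Groth.Agent.S7132.result A B K L hinj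
  rw [ramificationIdx'_eq hinj hA _ he] at hle
  have hpos : 0 < Module.finrank K L := Module.finrank_pos
  have hf1 : Module.finrank (ResidueField A) (ResidueField B) ≤ 1 := by
    by_contra hcon
    push Not at hcon
    nlinarith
  have hfpos : 0 < Module.finrank (ResidueField A) (ResidueField B) := Module.finrank_pos
  have hf : Module.finrank (ResidueField A) (ResidueField B) = 1 := by omega
  obtain ⟨c, hc⟩ := (finrank_eq_one_iff_of_nonzero' (1 : ResidueField B) one_ne_zero).mp hf
    (residue B b)
  obtain ⟨a, rfl⟩ := residue_surjective c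
  refine ⟨a, ?_⟩
  rw [← residue_eq_zero_iff, map_sub, ← hc, Algebra.smul_def, mul_one]
  rw [sub_eq_zero]
  rfl

end Ram

section Field

variable {p : ℕ} {L M : Type u} [Field L] [Field M] [Algebra L M] [IsPurelyInseparable L M]

theorem charP_of_finrank (hp : p.Prime) (hdeg : Module.finrank L M = p) : CharP L p := by
  haveI : FiniteDimensional L M := Module.finite_of_finrank_pos (by rw [hdeg]; exact hp.pos)
  obtain ⟨n, hn⟩ := IsPurelyInseparable.finrank_eq_pow (F := L) M (ringExpChar L)
  rw [hdeg] at hn
  have hq : ringExpChar L = p := ((Nat.Prime.pow_eq_iff hp).mp hn.symm).1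
  have hE : ExpChar L (ringExpChar L) := inferInstance
  rw [hq] at hE
  rcases hE with _ | ⟨hprime⟩
  · exact absurd rfl hp.ne_one
  · assumption

theorem pow_mem_range (hp : p.Prime) (hdeg : Module.finrank L M = p) (y : M) :
    ∃ x : L, algebraMap L M x = y ^ p := by
  haveI : FiniteDimensional L M := Module.finite_of_finrank_pos (by rw [hdeg]; exact hp.pos)
  haveI := charP_of_finrank hp hdeg
  haveI : ExpChar L p := ExpChar.prime hp
  obtain ⟨n, x, hx⟩ := IsPurelyInseparable.minpoly_eq_X_pow_sub_C L p y
  have hdegle : (minpoly L y).natDegree ≤ p := hdeg ▸ minpoly.natDegree_le y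
  have hnat : (minpoly L y).natDegree = p ^ n := by
    rw [hx, natDegree_sub_C, natDegree_X_pow]
  have hroot : y ^ p ^ n = algebraMap L M x := by
    have h0 := minpoly.aeval L y
    rw [hx, map_sub, map_pow, aeval_X, aeval_C, sub_eq_zero] at h0
    exact h0
  rw [hnat] at hdegle
  have hn1 : n ≤ 1 := by
    by_contra hcon
    push Not at hcon
    have h2 : p ^ 2 ≤ p ^ n := Nat.pow_le_pow_right hp.pos hcon
    have h3 : p < p ^ 2 := by nlinarith [hp.two_le]
    omega
  interval_cases n
  · refine ⟨x ^ p, ?_⟩
    rw [map_pow, ← hroot, pow_zero, pow_one]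
  · exact ⟨x, by rw [← hroot, pow_one]⟩

end Field

section Tower

variable {p : ℕ} {B C L M : Type u} [CommRing B] [IsDomain B] [IsDiscreteValuationRing B]
  [CommRing C] [IsDomain C] [IsDiscreteValuationRing C] [Algebra B C]
  [IsLocalHom (algebraMap B C)] [Field L] [Field M] [Algebra B L] [IsFractionRing B L]
  [Algebra C M] [IsFractionRing C M] [Algebra L M] [Algebra B M] [IsScalarTower B L M]
  [IsScalarTower B C M] [IsPurelyInseparable L M]

omit [IsDiscreteValuationRing C] in
/-- `p`-th powers of elements of `C` lie in `B`. -/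
theorem exists_pow_eq (hp : p.Prime) (hdeg : Module.finrank L M = p) (c : C) :
    ∃ b : B, algebraMap B C b = c ^ p := by
  have hψ : Function.Injective (algebraMap C M) := IsFractionRing.injective C M
  obtain ⟨x, hx⟩ := pow_mem_range hp hdeg (algebraMap C M c)
  have key : ∀ b : B, algebraMap B L b = x → algebraMap B C b = c ^ p := by
    intro b hb
    apply hψ
    rw [← IsScalarTower.algebraMap_apply B C M, IsScalarTower.algebraMap_apply B L M, hb, hx,
      map_pow]
  rcases ValuationRing.isInteger_or_isInteger B x with ⟨b, hb⟩ | ⟨b, hb⟩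
  · exact ⟨b, key b hb⟩
  · by_cases hx0 : x = 0
    · refine ⟨0, key 0 ?_⟩
      rw [hx0, map_zero]
    · have h1 : algebraMap B C b * c ^ p = 1 := by
        apply hψ
        rw [map_mul, map_one, ← IsScalarTower.algebraMap_apply B C M,
          IsScalarTower.algebraMap_apply B L M, hb, map_pow, ← hx, ← map_mul,
          inv_mul_cancel₀ hx0, map_one]
      have hu : IsUnit (algebraMap B C b) := IsUnit.of_mul_eq_one _ h1
      have hub : IsUnit b := (isUnit_map_iff (algebraMap B C) b).mp hu
      obtain ⟨ub, rfl⟩ := hub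
      refine ⟨((ub⁻¹ : Bˣ) : B), key _ ?_⟩
      have h2 : algebraMap B L ((ub⁻¹ : Bˣ) : B) * algebraMap B L (ub : B) = 1 := by
        rw [← map_mul, Units.inv_mul, map_one]
      rw [hb] at h2
      have h3 : x⁻¹ ≠ 0 := inv_ne_zero hx0
      calc algebraMap B L ((ub⁻¹ : Bˣ) : B) = algebraMap B L ((ub⁻¹ : Bˣ) : B) * x⁻¹ * x := by
            rw [mul_assoc, inv_mul_cancel₀ hx0, mul_one]
        _ = x := by rw [h2, one_mul]

/-- the ramification index of `C` over `B` is `1` or `p`. -/
theorem ram_cases (hp : p.Prime) (hdeg : Module.finrank L M = p)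
    (hinj : Function.Injective (algebraMap B C)) {π' : B} (hπ' : Irreducible π') :
    addVal C (algebraMap B C π') = 1 ∨
      (addVal C (algebraMap B C π') = p ∧
        ∃ (ϖ : C) (u : Bˣ), Irreducible ϖ ∧ ϖ ^ p = algebraMap B C ((u : B) * π')) := by
  obtain ⟨ϖ, hϖ⟩ := IsDiscreteValuationRing.exists_irreducible C
  obtain ⟨b₀, hb₀⟩ := exists_pow_eq (B := B) (L := L) (M := M) hp hdeg ϖ
  have hb₀0 : b₀ ≠ 0 := by
    rintro rfl
    rw [map_zero] at hb₀
    exact hϖ.ne_zero (pow_eq_zero_iff hp.ne_zero |>.mp hb₀.symm)
  obtain ⟨k, u, rfl⟩ := eq_unit_mul_pow_irreducible hb₀0 hπ'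
  have hφπ : algebraMap B C π' ≠ 0 := fun h => hπ'.ne_zero (hinj (by rw [h, map_zero]))
  obtain ⟨e, he⟩ : ∃ e : ℕ, addVal C (algebraMap B C π') = e := by
    have : addVal C (algebraMap B C π') ≠ ⊤ := by
      rw [Ne, addVal_eq_top_iff]; exact hφπ
    obtain ⟨e, he⟩ := ENat.ne_top_iff_exists.mp this
    exact ⟨e, he.symm⟩
  have h1 := congrArg (addVal C) hb₀
  have hu0 : addVal C (algebraMap B C (u : B)) = 0 :=
    addVal_eq_zero_of_unit (Units.map (algebraMap B C : B →* C) u)
  rw [map_mul, map_pow, addVal_mul, addVal_pow, addVal_pow, he, addVal_uniformizer hϖ,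
    hu0, zero_add] at h1
  have h2 : k * e = p := by
    have : ((k * e : ℕ) : ℕ∞) = (p : ℕ∞) := by
      push_cast
      simpa using h1
    exact_mod_cast this
  rw [he]
  have hdvd : e ∣ p := Dvd.intro_left k h2
  rcases (Nat.dvd_prime hp).mp hdvd with rfl | rfl
  · left; rfl
  · right
    refine ⟨rfl, ϖ, u, hϖ, ?_⟩
    have hk : k = 1 := by
      have := hp.pos
      nlinarith
    rw [hk, pow_one] at hb₀
    exact hb₀.symm

omit [IsDiscreteValuationRing C] in
/-- `C` is a finite `B`-module when `B` is Nagata. -/
theorem finite_of_isNagata (hB : CAlg.IsNagata B) (hp : p.Prime)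
    (hdeg : Module.finrank L M = p) : Module.Finite B C := by
  haveI : IsNoetherianRing B := hB.1
  haveI : FiniteDimensional L M := Module.finite_of_finrank_pos (by rw [hdeg]; exact hp.pos)
  haveI : Algebra.EssFiniteType B L := Algebra.EssFiniteType.of_isLocalization L (nonZeroDivisors B)
  haveI : Algebra.EssFiniteType B M := Algebra.EssFiniteType.comp B L M
  haveI hfin : Module.Finite B (integralClosure B M) :=
    Groth.Agent.Lib.Helper48.finite_integralClosure_of_isNagata_of_essFiniteType_field hB
  haveI : IsNoetherian B (integralClosure B M) := isNoetherian_of_isNoetherianRing_of_finite B _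
  have hint : ∀ c : C, IsIntegral B (algebraMap C M c) := by
    intro c
    obtain ⟨b, hb⟩ := exists_pow_eq (B := B) (L := L) (M := M) hp hdeg c
    apply IsIntegral.of_pow hp.pos
    rw [← map_pow, ← hb, ← IsScalarTower.algebraMap_apply B C M]
    exact isIntegral_algebraMap
  let f : C →ₗ[B] integralClosure B M :=
    { toFun := fun c => ⟨algebraMap C M c, hint c⟩
      map_add' := fun x y => Subtype.ext (map_add _ _ _)
      map_smul' := fun b c => Subtype.ext (by
        rw [RingHom.id_apply]
        change algebraMap C M (b • c) = b • algebraMap C M c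
        rw [Algebra.smul_def, Algebra.smul_def, map_mul, ← IsScalarTower.algebraMap_apply]) }
  refine Module.Finite.of_injective f (fun c c' hcc' => ?_)
  have := congrArg (fun z : integralClosure B M => (z : M)) hcc'
  exact IsFractionRing.injective C M this

end Tower

section Adjoin

variable {B C : Type u} [CommRing B] [IsLocalRing B] [CommRing C] [IsDomain C]
  [IsDiscreteValuationRing C] [Algebra B C]

/-- totally ramified with trivial residue extension and finite: generated by a uniformizer. -/
theorem adjoin_eq_top [Module.Finite B C] {p : ℕ} (c : C) (hc : Irreducible c)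
    (hres : ∀ x : C, ∃ b : B, x - algebraMap B C b ∈ maximalIdeal C)
    (hcp : ∃ b ∈ maximalIdeal B, c ^ p = algebraMap B C b) : Algebra.adjoin B {c} = ⊤ := by
  set S := Algebra.adjoin B {c} with hS
  have hcS : c ∈ S := Algebra.subset_adjoin (Set.mem_singleton c)
  have key : ∀ k : ℕ, ∀ x : C, ∃ s ∈ S, ∃ x' : C, x = s + c ^ k * x' := by
    intro k
    induction k with
    | zero => exact fun x => ⟨0, S.zero_mem, x, by simp⟩
    | succ k ih =>
      intro x
      obtain ⟨s, hs, x', rfl⟩ := ih x
      obtain ⟨b, hb⟩ := hres x'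
      rw [hc.maximalIdeal_eq, Ideal.mem_span_singleton'] at hb
      obtain ⟨x'', hx''⟩ := hb
      refine ⟨s + c ^ k * algebraMap B C b,
        S.add_mem hs (S.mul_mem (S.pow_mem hcS k) (S.algebraMap_mem b)), x'', ?_⟩
      have : x' = algebraMap B C b + x'' * c := by rw [hx'']; ring
      rw [this]; ring
  obtain ⟨b, hbm, hb⟩ := hcp
  have hle : (⊤ : Submodule B C) ≤ Subalgebra.toSubmodule S := by
    apply Submodule.le_of_le_smul_of_le_jacobson_bot (I := maximalIdeal B) Module.Finite.fg_top
    · exact IsLocalRing.maximalIdeal_le_jacobson ⊥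
    · intro x _
      obtain ⟨s, hs, x', rfl⟩ := key p x
      refine Submodule.add_mem_sup hs ?_
      rw [hb, ← Algebra.smul_def]
      exact Submodule.smul_mem_smul hbm Submodule.mem_top
  exact Algebra.toSubmodule_eq_top.mp (top_le_iff.mp hle)

end Adjoin

section Core3

variable {p : ℕ} (C M : Type u) {N : Type u} [CommRing C] [IsDomain C]
  [IsDiscreteValuationRing C] [Field M] [Algebra C M] [IsFractionRing C M] [Field N]
  [Algebra M N] [Algebra C N] [IsScalarTower C M N] [FiniteDimensional M N]

include M in
set_option maxHeartbeats 800000 in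
/-- If a valuation ring `W` of a degree `≤ p` extension `N / M` dominating the DVR `C` contains an
element whose `p`-th power reduces to a non-`p`-th power of the residue field of `C`, then `W` is
unramified over `C` and `[N : M] = p`. -/
theorem core3 (hp : p.Prime) (W : ValuationSubring N)
    (hW : EtRam.Dominates C (algebraMap C N) W) (hdeg : Module.finrank M N ≤ p)
    {ϖ : C} (hϖ : Irreducible ϖ) (θ : N)
    (hvθ : W.valuation (algebraMap C N ϖ) = W.valuation θ)
    (b : C) (hb : ∀ r : C, residue C b ≠ residue C r ^ p)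
    (y : N) (hy : y ∈ W) (hyb : W.valuation (y ^ p - algebraMap C N b) < 1) :
    p ≤ Module.finrank M N ∧ ∀ x : N, W.valuation x < 1 → ∃ w ∈ W, x = θ * w := by
  classical
  letI algCW : Algebra C W := (RingHom.codRestrict (algebraMap C N) W hW.1).toAlgebra
  haveI : IsScalarTower C W N := IsScalarTower.of_algebraMap_eq (fun _ => rfl)
  haveI : IsDiscreteValuationRing W :=
    Groth.Agent.Lib.Helper9.KADominates.isDiscreteValuationRing_of_dominates_finite C M W hW
  have hCN : Function.Injective (algebraMap C N) := by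
    rw [IsScalarTower.algebraMap_eq C M N]
    exact (algebraMap M N).injective.comp (IsFractionRing.injective C M)
  have hinj : Function.Injective (algebraMap C W) := by
    intro a a' haa'
    apply hCN
    exact congrArg (fun w : W => (w : N)) haa'
  haveI hloc : IsLocalHom (algebraMap C W) := by
    constructor
    intro c hc
    by_contra hnu
    have hcm : c ∈ maximalIdeal C := (mem_maximalIdeal c).mpr hnu
    have h1 := hW.2 c hcm
    have h2 := (W.valuation_eq_one_iff _).mp hc
    have h3 : ((algebraMap C W c : W) : N) = algebraMap C N c := rfl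
    rw [h3] at h2
    exact h1.ne h2
  obtain ⟨hfin, hle⟩ := Groth.Agent.S7132.result C W M N hinj
  haveI := hfin
  -- the ramification index
  have hϖN : algebraMap C N ϖ ≠ 0 := fun h => hϖ.ne_zero (hCN (by rw [h, map_zero]))
  have hϖW : algebraMap C W ϖ ≠ 0 := fun h => hϖ.ne_zero (hinj (by rw [h, map_zero]))
  obtain ⟨e, he⟩ : ∃ e : ℕ, addVal W (algebraMap C W ϖ) = e := by
    have : addVal W (algebraMap C W ϖ) ≠ ⊤ := by
      rw [Ne, addVal_eq_top_iff]; exact hϖW
    obtain ⟨e, he⟩ := ENat.ne_top_iff_exists.mp this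
    exact ⟨e, he.symm⟩
  rw [ramificationIdx'_eq hinj hϖ e he] at hle
  -- the residue degree
  let yW : W := ⟨y, hy⟩
  have hyres : residue W yW ^ p = algebraMap (ResidueField C) (ResidueField W) (residue C b) := by
    rw [IsLocalRing.ResidueField.algebraMap_residue, ← map_pow, ← sub_eq_zero, ← map_sub,
      residue_eq_zero_iff, W.valuation_lt_one_iff]
    exact hyb
  have hirr : Irreducible (X ^ p - Polynomial.C (residue C b) : (ResidueField C)[X]) := by
    apply X_pow_sub_C_irreducible_of_prime hp
    intro c hc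
    obtain ⟨r, rfl⟩ := residue_surjective c
    exact hb r hc.symm
  have hmonic : (X ^ p - Polynomial.C (residue C b) : (ResidueField C)[X]).Monic :=
    monic_X_pow_sub_C _ hp.ne_zero
  have heval : aeval (residue W yW) (X ^ p - Polynomial.C (residue C b) : (ResidueField C)[X]) = 0 := by
    rw [map_sub, map_pow, aeval_X, aeval_C, hyres, sub_self]
  have hmin := minpoly.eq_of_irreducible_of_monic hirr heval hmonic
  have hfp : p ≤ Module.finrank (ResidueField C) (ResidueField W) := by
    have h1 := minpoly.natDegree_le (A := ResidueField C) (residue W yW)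
    rw [← hmin, natDegree_sub_C, natDegree_X_pow] at h1
    exact h1
  -- `e ≥ 1`
  have he1 : 1 ≤ e := by
    by_contra hcon
    push Not at hcon
    have he0 : e = 0 := by omega
    rw [he0] at he
    have hu : IsUnit (algebraMap C W ϖ) := by
      have := (addVal_eq_zero_iff (R := W)).mp (by exact_mod_cast he)
      exact this
    exact hϖ.not_isUnit ((isUnit_map_iff (algebraMap C W) ϖ).mp hu)
  have hep : e * p ≤ p := le_trans (le_trans (Nat.mul_le_mul_left e hfp) hle) hdeg
  have hp0 := hp.pos
  have he_eq : e = 1 := by nlinarith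
  refine ⟨?_, ?_⟩
  · calc p = e * p := by rw [he_eq, one_mul]
      _ ≤ e * Module.finrank (ResidueField C) (ResidueField W) := Nat.mul_le_mul_left e hfp
      _ ≤ Module.finrank M N := hle
  · intro x hx
    rw [he_eq] at he
    obtain ⟨τ, hτ⟩ := IsDiscreteValuationRing.exists_irreducible W
    obtain ⟨n, u, hu⟩ := eq_unit_mul_pow_irreducible hϖW hτ
    have hn : n = 1 := by
      have h1 := congrArg (addVal W) hu
      rw [he, addVal_mul, addVal_pow, addVal_uniformizer hτ, addVal_eq_zero_of_unit u,
        zero_add] at h1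
      have : ((n : ℕ) : ℕ∞) = 1 := by simpa using h1.symm
      exact_mod_cast this
    rw [hn, pow_one] at hu
    -- `x ∈ 𝔪_W = (τ) = (ϖ)`
    have hxW : x ∈ W := W.mem_of_valuation_le_one x hx.le
    have hxm : (⟨x, hxW⟩ : W) ∈ maximalIdeal W := (W.valuation_lt_one_iff _).mpr hx
    rw [hτ.maximalIdeal_eq, Ideal.mem_span_singleton'] at hxm
    obtain ⟨w', hw'⟩ := hxm
    have hθ0 : θ ≠ 0 := by
      intro h0
      rw [h0, map_zero, map_eq_zero] at hvθ
      exact hϖN hvθ
    have hxeq : x = algebraMap C N ϖ * ((((u⁻¹ : Wˣ) : W) : N) * (w' : N)) := by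
      have h1 : (x : N) = (w' : N) * (τ : N) := congrArg (fun w : W => (w : N)) hw'.symm
      have h2 : algebraMap C N ϖ = ((u : W) : N) * (τ : N) :=
        congrArg (fun w : W => (w : N)) hu
      have h3 : (((u⁻¹ : Wˣ) : W) : N) * ((u : W) : N) = 1 := by
        have h4 : (((u⁻¹ : Wˣ) : W) * (u : W) : W) = 1 := Units.inv_mul u
        have h5 := congrArg (fun w : W => (w : N)) h4
        exact h5
      rw [h1, h2]
      calc (w' : N) * (τ : N) = (((u⁻¹ : Wˣ) : W) : N) * ((u : W) : N) * ((w' : N) * (τ : N)) := by
            rw [h3, one_mul]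
        _ = _ := by ring
    refine ⟨x / θ, ?_, by field_simp⟩
    apply W.mem_of_valuation_le_one
    have hv0 : W.valuation (algebraMap C N ϖ) ≠ 0 := by
      rw [Ne, map_eq_zero]; exact hϖN
    rw [map_div₀, ← hvθ, hxeq, map_mul, mul_comm, mul_div_assoc, div_self hv0, mul_one]
    exact (W.valuation_le_one_iff _).mpr (W.mul_mem _ _ ((u⁻¹ : Wˣ) : W).2 w'.2)

end Core3

end Groth.Agent.Lib.Helper9.PInsep
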