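import Mathlib
import Groth.Agent.Lib.Helper9.PInsep.Basic
import Groth.Agent.Lib.Helper9.TameBC
import Groth.Agent.Lib.Helper9.AbhyankarCore
import Groth.Agent.Lib.Helper9.DVRExt
import Groth.Agent.Lib.Helper9.UnramBridge

/-!
# Purely inseparable degree `p` steps over DVRs: the third case (helper9)

The local computation showing that the Epp-type extension `K₁ = K(π_B)` of S7157 kills the
ramification of `C` over `A`.
-/

set_option autoImplicit false
universe u

open IsLocalRing Polynomial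
open IsDiscreteValuationRing hiding maximalIdeal

namespace Groth.Agent.Lib.Helper9.PInsep

section FieldIdentities

variable {p : ℕ} {N : Type u} [Field N]

/-- the key identity in characteristic `p`. -/
theorem key_identity (hp : p.Prime) [CharP N p] (θ ϖN πN bN β' ε : N) (m : ℕ)
    (hε : ε = 1 - θ ^ ((m + 1) * p) * β') (hπε : πN = θ ^ p * ε)
    (R3 : ϖN ^ p = (1 + bN * πN ^ m) * πN) :
    (ϖN - θ) ^ p = (bN * ε ^ (m + 1) - θ ^ p * β') * θ ^ ((m + 1) * p) := by
  haveI : Fact p.Prime := ⟨hp⟩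
  subst hπε
  rw [sub_pow_char, R3]
  linear_combination (θ ^ p) * hε

theorem valuation_pow_sub_one_lt (W : ValuationSubring N) (x : N)
    (hx : W.valuation (x - 1) < 1) (n : ℕ) : W.valuation (x ^ n - 1) < 1 := by
  have hx1 : W.valuation x ≤ 1 := by
    have : x = 1 + (x - 1) := by ring
    rw [this]
    refine le_trans (Valuation.map_add _ _ _) (max_le ?_ hx.le)
    rw [map_one]
  induction n with
  | zero => simp
  | succ n ih =>
    have : x ^ (n + 1) - 1 = x ^ n * (x - 1) + (x ^ n - 1) := by ring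
    rw [this]
    apply Valuation.map_add_lt _ _ ih
    rw [map_mul, map_pow]
    calc W.valuation x ^ n * W.valuation (x - 1) ≤ 1 * W.valuation (x - 1) := by
          gcongr
          exact pow_le_one' hx1 n
      _ < 1 := by rw [one_mul]; exact hx

end FieldIdentities

section CaseThree

open TensorProduct

variable {p : ℕ} (A C K M K₁ : Type u) [CommRing A] [IsDomain A] [IsDiscreteValuationRing A]
  [CommRing C] [IsDomain C] [IsDiscreteValuationRing C] [Algebra A C]
  [Field K] [Field M] [Field K₁] [Algebra A K] [IsFractionRing A K] [Algebra C M]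
  [IsFractionRing C M] [Algebra K M] [Algebra A M] [IsScalarTower A K M] [IsScalarTower A C M]
  [Algebra K K₁] [Algebra A K₁] [IsScalarTower A K K₁] [FiniteDimensional K K₁]
  [Algebra.IsSeparable K K₁]

set_option maxHeartbeats 1600000 in
/-- the local computation for the third case of the trichotomy. -/
theorem local_step (hp : p.Prime) [CharP K p] (hK₁ : Module.finrank K K₁ = p) (π : A)
    {ϖ' : C} (hϖ' : Irreducible ϖ') (b₀ : C) (m : ℕ)
    (hu' : IsUnit (1 + b₀ * algebraMap A C π ^ m))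
    (hϖ'p : ϖ' ^ p = (1 + b₀ * algebraMap A C π ^ m) * algebraMap A C π)
    (hb₀ : ∀ r : C, residue C b₀ ≠ residue C r ^ p)
    (πB b₁ b' : K₁) (hπB : IsIntegral A πB) (hb₁ : IsIntegral A b₁) (hb' : IsIntegral A b')
    (h1 : πB ^ p = algebraMap A K₁ π + algebraMap A K₁ π ^ (m + 2) * b₁)
    (h2 : πB ^ p = algebraMap A K₁ π + πB ^ ((m + 2) * p) * b')
    (N : Type u) [Field N] [Algebra K N] [Algebra M N] [Algebra K₁ N] [IsScalarTower K M N]
    [IsScalarTower K K₁ N]
    (hgen : Algebra.adjoin M (Set.range (algebraMap K₁ N)) = ⊤) (W : ValuationSubring N)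
    (hW : EtRam.Dominates C ((algebraMap M N).comp (algebraMap C M)) W) :
    p ≤ Module.finrank M N ∧
      (letI : Algebra (W.comap (algebraMap K₁ N)) W :=
        (EtRam.inclOfComap W (algebraMap K₁ N)).toAlgebra
       EtRam.IsWeaklyUnramified (W.comap (algebraMap K₁ N)) W) := by
  classical
  letI algCN : Algebra C N := ((algebraMap M N).comp (algebraMap C M)).toAlgebra
  haveI towCMN : IsScalarTower C M N := IsScalarTower.of_algebraMap_eq (fun _ => rfl)
  have hW' : EtRam.Dominates C (algebraMap C N) W := hW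
  let ψ : M ⊗[K] K₁ →ₐ[M] N :=
    Algebra.TensorProduct.productLeftAlgHom (Algebra.ofId M N) (IsScalarTower.toAlgHom K K₁ N)
  have hψr : ψ.range = ⊤ := by
    rw [eq_top_iff, ← hgen]
    apply Algebra.adjoin_le
    rintro _ ⟨k, rfl⟩
    refine ⟨(1 : M) ⊗ₜ[K] k, ?_⟩
    simp [ψ]
  have hψ : Function.Surjective ψ := (AlgHom.range_eq_top ψ).mp hψr
  obtain ⟨hfd, hsep⟩ := Groth.Agent.Lib.Helper9.TameBC.finite_separable_of_quotient K M K₁ N ψ hψ
  haveI := hfd
  have hle : Module.finrank M N ≤ p := by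
    have h1 : Module.finrank M N ≤ Module.finrank M (M ⊗[K] K₁) :=
      LinearMap.finrank_le_finrank_of_surjective (f := ψ.toLinearMap) hψ
    rwa [Module.finrank_baseChange, hK₁] at h1
  haveI : CharP N p := charP_of_injective_algebraMap (algebraMap K N).injective p
  have hcomm : ∀ a : A, algebraMap K₁ N (algebraMap A K₁ a) =
      algebraMap C N (algebraMap A C a) := by
    intro a
    show algebraMap K₁ N (algebraMap A K₁ a) = algebraMap M N (algebraMap C M (algebraMap A C a))
    rw [IsScalarTower.algebraMap_apply A K K₁, ← IsScalarTower.algebraMap_apply K K₁ N,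
      IsScalarTower.algebraMap_apply K M N, ← IsScalarTower.algebraMap_apply A K M,
      ← IsScalarTower.algebraMap_apply A C M]
  letI algAN : Algebra A N := ((algebraMap K₁ N).comp (algebraMap A K₁)).toAlgebra
  haveI towAK₁N : IsScalarTower A K₁ N := IsScalarTower.of_algebraMap_eq (fun _ => rfl)
  have hAW : ∀ a : A, algebraMap A N a ∈ W := by
    intro a
    show algebraMap K₁ N (algebraMap A K₁ a) ∈ W
    rw [hcomm]
    exact hW'.1 _
  -- the elements
  obtain ⟨πN, hπN⟩ : ∃ x : N, x = algebraMap C N (algebraMap A C π) := ⟨_, rfl⟩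
  obtain ⟨θ, hθ⟩ : ∃ x : N, x = algebraMap K₁ N πB := ⟨_, rfl⟩
  obtain ⟨β₁, hβ₁⟩ : ∃ x : N, x = algebraMap K₁ N b₁ := ⟨_, rfl⟩
  obtain ⟨β', hβ'⟩ : ∃ x : N, x = algebraMap K₁ N b' := ⟨_, rfl⟩
  obtain ⟨ϖN, hϖN⟩ : ∃ x : N, x = algebraMap C N ϖ' := ⟨_, rfl⟩
  obtain ⟨bN, hbN⟩ : ∃ x : N, x = algebraMap C N b₀ := ⟨_, rfl⟩
  have R1 : θ ^ p = πN + πN ^ (m + 2) * β₁ := by
    have := congrArg (algebraMap K₁ N) h1
    rw [map_pow, map_add, map_mul, map_pow, hcomm] at this
    rw [hθ, hπN, hβ₁]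
    exact this
  have R2 : θ ^ p = πN + θ ^ ((m + 2) * p) * β' := by
    have := congrArg (algebraMap K₁ N) h2
    rw [map_pow, map_add, map_mul, map_pow, hcomm] at this
    rw [hθ, hπN, hβ']
    exact this
  have R3 : ϖN ^ p = (1 + bN * πN ^ m) * πN := by
    have := congrArg (algebraMap C N) hϖ'p
    rw [map_pow, map_mul, map_add, map_one, map_mul, map_pow] at this
    rw [hϖN, hπN, hbN]
    exact this
  -- memberships
  have hθW : θ ∈ W := by
    rw [hθ]
    exact Groth.Agent.Lib.Helper9.DVRExt.mem_of_isIntegral W hAW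
      (hπB.map (IsScalarTower.toAlgHom A K₁ N))
  have hβ₁W : β₁ ∈ W := by
    rw [hβ₁]
    exact Groth.Agent.Lib.Helper9.DVRExt.mem_of_isIntegral W hAW
      (hb₁.map (IsScalarTower.toAlgHom A K₁ N))
  have hβ'W : β' ∈ W := by
    rw [hβ']
    exact Groth.Agent.Lib.Helper9.DVRExt.mem_of_isIntegral W hAW
      (hb'.map (IsScalarTower.toAlgHom A K₁ N))
  have hbNW : bN ∈ W := by rw [hbN]; exact hW'.1 _
  have hϖNW : ϖN ∈ W := by rw [hϖN]; exact hW'.1 _
  -- `π` is a non-unit in `C`
  have hπCm : algebraMap A C π ∈ maximalIdeal C := by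
    rw [mem_maximalIdeal, mem_nonunits_iff]
    intro hunit
    have : IsUnit (ϖ' ^ p) := by rw [hϖ'p]; exact hu'.mul hunit
    exact hϖ'.not_isUnit ((isUnit_pow_iff hp.ne_zero).mp this)
  have hπNlt : W.valuation πN < 1 := by rw [hπN]; exact hW'.2 _ hπCm
  have hvle : ∀ {x : N}, x ∈ W → W.valuation x ≤ 1 := fun hx => (W.valuation_le_one_iff _).mpr hx
  -- the unit `1 + b₀ π^m` has valuation one
  have hunit1 : W.valuation (1 + bN * πN ^ m) = 1 := by
    obtain ⟨w, hw⟩ := hu'
    have e1 : algebraMap C N (w : C) = 1 + bN * πN ^ m := by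
      rw [hw, map_add, map_one, map_mul, map_pow, hbN, hπN]
    have e2 : algebraMap C N (w : C) * algebraMap C N ((w⁻¹ : Cˣ) : C) = 1 := by
      rw [← map_mul, Units.mul_inv, map_one]
    have e3 : W.valuation (algebraMap C N (w : C)) *
        W.valuation (algebraMap C N ((w⁻¹ : Cˣ) : C)) = 1 := by
      rw [← map_mul, e2, map_one]
    have e4 : W.valuation (algebraMap C N (w : C)) ≤ 1 := hvle (hW'.1 _)
    have e5 : W.valuation (algebraMap C N ((w⁻¹ : Cˣ) : C)) ≤ 1 := hvle (hW'.1 _)
    rw [← e1]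
    by_contra hne
    have hlt : W.valuation (algebraMap C N (w : C)) < 1 := lt_of_le_of_ne e4 hne
    have : W.valuation (algebraMap C N (w : C)) *
        W.valuation (algebraMap C N ((w⁻¹ : Cˣ) : C)) < 1 := by
      calc _ ≤ W.valuation (algebraMap C N (w : C)) * 1 := by gcongr
        _ < 1 := by rw [mul_one]; exact hlt
    exact this.ne e3
  -- valuations of `θ` and `ϖN`
  have hθp : W.valuation θ ^ p = W.valuation πN := by
    have e1 : θ ^ p = πN * (1 + πN ^ (m + 1) * β₁) := by rw [R1]; ring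
    rw [← map_pow, e1, map_mul]
    have e2 : W.valuation (πN ^ (m + 1) * β₁) < 1 := by
      rw [map_mul, map_pow]
      calc W.valuation πN ^ (m + 1) * W.valuation β₁ ≤ W.valuation πN ^ (m + 1) * 1 := by
            gcongr
            exact hvle hβ₁W
        _ < 1 := by
            rw [mul_one]
            exact pow_lt_one₀ zero_le' hπNlt (Nat.succ_ne_zero m)
    rw [Valuation.map_one_add_of_lt _ e2, mul_one]
  have hθlt : W.valuation θ < 1 := by
    apply Groth.Agent.Lib.Helper9.AbhyankarCore.valuation_lt_one_of_pow W hp.ne_zero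
    rw [map_pow, hθp]
    exact hπNlt
  have hϖp : W.valuation ϖN ^ p = W.valuation πN := by
    rw [← map_pow, R3, map_mul, hunit1, one_mul]
  have hveq : W.valuation ϖN = W.valuation θ := by
    have : W.valuation ϖN ^ p = W.valuation θ ^ p := by rw [hϖp, hθp]
    exact (pow_left_inj₀ zero_le' zero_le' hp.ne_zero).mp this
  have hθ0 : θ ≠ 0 := by
    intro h0
    have hπ0 : algebraMap A C π ≠ 0 := by
      intro h
      rw [h, mul_zero] at hϖ'p
      exact hϖ'.ne_zero (pow_eq_zero_iff hp.ne_zero |>.mp hϖ'p)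
    have hCN : Function.Injective (algebraMap C N) := by
      rw [IsScalarTower.algebraMap_eq C M N]
      exact (algebraMap M N).injective.comp (IsFractionRing.injective C M)
    have hπN0 : πN ≠ 0 := by
      rw [hπN]
      intro h
      exact hπ0 (hCN (by rw [h, map_zero]))
    rw [h0, map_zero, zero_pow hp.ne_zero] at hθp
    exact hπN0 ((map_eq_zero _).mp hθp.symm)
  -- `ε` and `y`
  obtain ⟨ε, hε⟩ : ∃ x : N, x = 1 - θ ^ ((m + 1) * p) * β' := ⟨_, rfl⟩
  have hπε : πN = θ ^ p * ε := by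
    rw [hε]
    linear_combination (-1 : N) * R2
  have hkey := key_identity hp θ ϖN πN bN β' ε m hε hπε R3
  obtain ⟨y, hy⟩ : ∃ x : N, x = (ϖN - θ) / θ ^ (m + 1) := ⟨_, rfl⟩
  have hyp : y ^ p = bN * ε ^ (m + 1) - θ ^ p * β' := by
    rw [hy, div_pow, hkey, ← pow_mul, mul_div_assoc, div_self (pow_ne_zero _ hθ0), mul_one]
  have hεsub : W.valuation (ε - 1) < 1 := by
    have : ε - 1 = -(θ ^ ((m + 1) * p) * β') := by rw [hε]; ring
    rw [this, Valuation.map_neg, map_mul, map_pow]
    calc W.valuation θ ^ ((m + 1) * p) * W.valuation β' ≤ W.valuation θ ^ ((m + 1) * p) * 1 := by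
          gcongr
          exact hvle hβ'W
      _ < 1 := by
          rw [mul_one]
          exact pow_lt_one₀ zero_le' hθlt (Nat.mul_ne_zero (Nat.succ_ne_zero m) hp.ne_zero)
  have hεW : ε ∈ W := by
    rw [hε]
    exact sub_mem W.one_mem (W.mul_mem _ _ (pow_mem hθW _) hβ'W)
  have hypW : y ^ p ∈ W := by
    rw [hyp]
    exact sub_mem (W.mul_mem _ _ hbNW (pow_mem hεW _))
      (W.mul_mem _ _ (pow_mem hθW _) hβ'W)
  have hyW : y ∈ W :=
    Groth.Agent.Lib.Helper9.AbhyankarCore.valuation_le_one_of_pow W hp.ne_zero hypW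
  have hyb : W.valuation (y ^ p - algebraMap C N b₀) < 1 := by
    rw [← hbN, hyp]
    have : bN * ε ^ (m + 1) - θ ^ p * β' - bN = bN * (ε ^ (m + 1) - 1) + -(θ ^ p * β') := by ring
    rw [this]
    apply Valuation.map_add_lt
    · rw [map_mul]
      calc W.valuation bN * W.valuation (ε ^ (m + 1) - 1) ≤ 1 * W.valuation (ε ^ (m + 1) - 1) := by
            gcongr
            exact hvle hbNW
        _ < 1 := by
            rw [one_mul]
            exact valuation_pow_sub_one_lt W ε hεsub _
    · rw [Valuation.map_neg, map_mul, map_pow]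
      calc W.valuation θ ^ p * W.valuation β' ≤ W.valuation θ ^ p * 1 := by
            gcongr
            exact hvle hβ'W
        _ < 1 := by
            rw [mul_one]
            exact pow_lt_one₀ zero_le' hθlt hp.ne_zero
  obtain ⟨hfin, hgen'⟩ := core3 C M hp W hW' hle hϖ' θ (by rw [← hϖN]; exact hveq) b₀ hb₀ y hyW hyb
  refine ⟨hfin, ?_⟩
  letI algVW : Algebra (W.comap (algebraMap K₁ N)) W :=
    (EtRam.inclOfComap W (algebraMap K₁ N)).toAlgebra
  show Ideal.map (algebraMap (W.comap (algebraMap K₁ N)) W)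
    (maximalIdeal (W.comap (algebraMap K₁ N))) = maximalIdeal W
  apply le_antisymm
  · have hloc : IsLocalHom (algebraMap (W.comap (algebraMap K₁ N)) W) :=
      EtRam.isLocalHom_inclOfComap W (algebraMap K₁ N)
    exact ((IsLocalRing.local_hom_TFAE (algebraMap (W.comap (algebraMap K₁ N)) W)).out 0 2).mp
      hloc
  · intro x hx
    have hxlt : W.valuation (x : N) < 1 := (W.valuation_lt_one_iff x).mp hx
    obtain ⟨w, hwW, hxw⟩ := hgen' (x : N) hxlt
    have hπBmem : πB ∈ W.comap (algebraMap K₁ N) := by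
      show algebraMap K₁ N πB ∈ W
      rw [← hθ]
      exact hθW
    have hπBmax : (⟨πB, hπBmem⟩ : W.comap (algebraMap K₁ N)) ∈
        maximalIdeal (W.comap (algebraMap K₁ N)) := by
      rw [ValuationSubring.valuation_lt_one_iff,
        Groth.Agent.Lib.Helper9.AbhyankarCore.valuation_comap_lt_one_iff, ← hθ]
      exact hθlt
    have hxeq : x = algebraMap (W.comap (algebraMap K₁ N)) W ⟨πB, hπBmem⟩ * ⟨w, hwW⟩ := by
      apply Subtype.ext
      show (x : N) = algebraMap K₁ N πB * w
      rw [← hθ]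
      exact hxw
    rw [hxeq]
    exact Ideal.mul_mem_right _ _ (Ideal.mem_map_of_mem _ hπBmax)

end CaseThree

section IsFieldTensor

open TensorProduct

variable (C K M K₁ : Type u) [CommRing C] [IsDomain C] [IsDiscreteValuationRing C]
  [Field K] [Field M] [Field K₁] [Algebra C M] [IsFractionRing C M] [Algebra K M]
  [Algebra K K₁] [FiniteDimensional K K₁]

set_option maxHeartbeats 1600000 in
/-- if every local extension of a composite has full degree, the tensor product is a field. -/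
theorem isField_tensor
    (h : ∀ (N : Type u) [Field N] [Algebra K N] [Algebra M N] [Algebra K₁ N]
      [IsScalarTower K M N] [IsScalarTower K K₁ N],
      Algebra.adjoin M (Set.range (algebraMap K₁ N)) = ⊤ →
      ∀ (W : ValuationSubring N),
        EtRam.Dominates C ((algebraMap M N).comp (algebraMap C M)) W →
        Module.finrank K K₁ ≤ Module.finrank M N) : IsField (M ⊗[K] K₁) := by
  classical
  haveI : Nontrivial (M ⊗[K] K₁) :=
    Algebra.TensorProduct.nontrivial_of_algebraMap_injective_of_flat_left (R := K) M K₁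
      (algebraMap K K₁).injective
  obtain ⟨𝔐, h𝔐⟩ := Ideal.exists_maximal (M ⊗[K] K₁)
  letI fM : Field ((M ⊗[K] K₁) ⧸ 𝔐) := Ideal.Quotient.field 𝔐
  letI algK₁M : Algebra K₁ ((M ⊗[K] K₁) ⧸ 𝔐) := ((Ideal.Quotient.mk 𝔐).comp
    (Algebra.TensorProduct.includeRight : K₁ →ₐ[K] M ⊗[K] K₁).toRingHom).toAlgebra
  haveI towKK₁M : IsScalarTower K K₁ ((M ⊗[K] K₁) ⧸ 𝔐) := IsScalarTower.of_algebraMap_eq (by
    intro k
    show Ideal.Quotient.mk 𝔐 (algebraMap K (M ⊗[K] K₁) k) =
      Ideal.Quotient.mk 𝔐 ((1 : M) ⊗ₜ[K] algebraMap K K₁ k)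
    rw [Algebra.TensorProduct.algebraMap_apply, Algebra.algebraMap_eq_smul_one (A := K₁),
      Algebra.algebraMap_eq_smul_one (A := M), TensorProduct.smul_tmul])
  have hgen : Algebra.adjoin M (Set.range (algebraMap K₁ ((M ⊗[K] K₁) ⧸ 𝔐))) = ⊤ := by
    rw [eq_top_iff]
    intro x _
    obtain ⟨t, rfl⟩ := Ideal.Quotient.mk_surjective x
    induction t using TensorProduct.induction_on with
    | zero => rw [map_zero]; exact Subalgebra.zero_mem _
    | tmul l k =>
      have hlk : (l ⊗ₜ[K] k : M ⊗[K] K₁) = l • ((1 : M) ⊗ₜ[K] k) := by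
        rw [TensorProduct.smul_tmul', smul_eq_mul, mul_one]
      have hmk : Ideal.Quotient.mk 𝔐 (l ⊗ₜ[K] k) =
          l • algebraMap K₁ ((M ⊗[K] K₁) ⧸ 𝔐) k := by
        rw [hlk]
        rfl
      rw [hmk]
      exact Subalgebra.smul_mem _ (Algebra.subset_adjoin (Set.mem_range_self k)) l
    | add x y hx hy => rw [map_add]; exact Subalgebra.add_mem _ (hx trivial) (hy trivial)
  obtain ⟨W, hWc⟩ := Groth.Agent.Lib.Helper9.AbhyankarCore.exists_extension
    (Groth.Agent.Lib.Helper9.UnramBridge.valSub C M) (algebraMap M ((M ⊗[K] K₁) ⧸ 𝔐))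
  have hW : EtRam.Dominates C ((algebraMap M ((M ⊗[K] K₁) ⧸ 𝔐)).comp (algebraMap C M)) W := by
    refine ⟨fun b => ?_, fun b hb => ?_⟩
    · have : algebraMap C M b ∈ W.comap (algebraMap M ((M ⊗[K] K₁) ⧸ 𝔐)) := by
        rw [hWc, Groth.Agent.Lib.Helper9.UnramBridge.mem_valSub_iff]
        exact ⟨b, rfl⟩
      exact this
    · rw [RingHom.comp_apply, ← Groth.Agent.Lib.Helper9.AbhyankarCore.valuation_comap_lt_one_iff,
        hWc, Groth.Agent.Lib.Helper9.DVRExt.valuation_valSub_lt_one_iff]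
      exact hb
  have hfr := h _ hgen W hW
  have hsurj : Function.Surjective (Ideal.Quotient.mkₐ M 𝔐).toLinearMap :=
    Ideal.Quotient.mkₐ_surjective M 𝔐
  have hfr' : Module.finrank M ((M ⊗[K] K₁) ⧸ 𝔐) = Module.finrank K K₁ := by
    apply le_antisymm _ hfr
    have h1 : Module.finrank M ((M ⊗[K] K₁) ⧸ 𝔐) ≤ Module.finrank M (M ⊗[K] K₁) :=
      LinearMap.finrank_le_finrank_of_surjective (f := (Ideal.Quotient.mkₐ M 𝔐).toLinearMap) hsurj
    rwa [Module.finrank_baseChange] at h1
  have hinj' : Function.Injective (Ideal.Quotient.mkₐ M 𝔐).toLinearMap :=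
    (LinearMap.injective_iff_surjective_of_finrank_eq_finrank
      (by rw [Module.finrank_baseChange, hfr'])).mpr hsurj
  have hbot : 𝔐 = ⊥ := by
    rw [eq_bot_iff]
    intro x hx
    have h0 : (Ideal.Quotient.mkₐ M 𝔐).toLinearMap x = (Ideal.Quotient.mkₐ M 𝔐).toLinearMap 0 := by
      rw [map_zero]
      exact Ideal.Quotient.eq_zero_iff_mem.mpr hx
    exact hinj' h0
  rw [hbot] at h𝔐
  exact Ring.isField_iff_maximal_bot.mpr h𝔐

end IsFieldTensor

end Groth.Agent.Lib.Helper9.PInsep
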