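import Mathlib
import Groth.Agent.Lib.Helper9.PInsep.Basic

/-!
# The dichotomy for the unit `u` with `ϖ ^ p = u π` (helper9)
-/

set_option autoImplicit false
universe u

open IsLocalRing Polynomial
open IsDiscreteValuationRing hiding maximalIdeal

namespace Groth.Agent.Lib.Helper9.PInsep

section Seq

variable {p : ℕ} {B C : Type u} [CommRing B] [IsDomain B] [IsDiscreteValuationRing B]
  [CommRing C] [IsDomain C] [IsDiscreteValuationRing C] [Algebra B C]
  [IsLocalHom (algebraMap B C)] [CharP B p] [CharP C p]

/-- successive approximation of `u⁻¹` by `p`-th powers of units of `C`. -/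
theorem exists_seq (hp : p.Prime) {π' : B} (hπ' : Irreducible π') {ϖ : C}
    (u : Bˣ) (hϖp : ϖ ^ p = algebraMap B C ((u : B) * π'))
    (h2 : ∀ (m : ℕ) (v : Cˣ) (b : B),
      algebraMap B C (u : B) * (v : C) ^ p = 1 + algebraMap B C (b * π' ^ m) →
        ∃ r : B, residue B b = residue B r ^ p) (m : ℕ) :
    ∃ (v : Cˣ) (b : B), algebraMap B C (u : B) * (v : C) ^ p = 1 + algebraMap B C (b * π' ^ m) := by
  haveI : Fact p.Prime := ⟨hp⟩
  induction m with
  | zero =>
    refine ⟨1, (u : B) - 1, ?_⟩
    rw [Units.val_one, one_pow, mul_one, pow_zero, mul_one, map_sub, map_one]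
    ring
  | succ m ih =>
    obtain ⟨v, b, hvb⟩ := ih
    obtain ⟨r, hr⟩ := h2 m v b hvb
    have hbr : b - r ^ p ∈ maximalIdeal B := by
      rw [← residue_eq_zero_iff, map_sub, map_pow, hr, sub_self]
    rw [hπ'.maximalIdeal_eq, Ideal.mem_span_singleton'] at hbr
    obtain ⟨b', hb'⟩ := hbr
    have hb : b = r ^ p + b' * π' := by rw [hb']; ring
    rcases Nat.eq_zero_or_pos m with hm | hm
    · -- the case `m = 0`
      subst hm
      rw [pow_zero, mul_one] at hvb
      have h1 : algebraMap B C (u : B) * (v : C) ^ p =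
          algebraMap B C ((1 + r) ^ p + b' * π') := by
        rw [hvb, hb, add_pow_char, one_pow, ← map_one (algebraMap B C), ← map_add]
        congr 1
        ring
      have hr1 : IsUnit (1 + r) := by
        by_contra hnu
        have hmem : (1 + r) ^ p + b' * π' ∈ maximalIdeal B := by
          refine Ideal.add_mem _ (Ideal.pow_mem_of_mem _ ((mem_maximalIdeal _).mpr hnu) _ hp.pos) ?_
          rw [hπ'.maximalIdeal_eq]
          exact Ideal.mul_mem_left _ _ (Ideal.mem_span_singleton_self π')
        have hnu' : ¬ IsUnit (algebraMap B C ((1 + r) ^ p + b' * π')) := by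
          intro hu'
          exact ((mem_maximalIdeal _).mp hmem) ((isUnit_map_iff (algebraMap B C) _).mp hu')
        apply hnu'
        rw [← h1]
        exact ((Units.map (algebraMap B C : B →* C) u) * v ^ p).isUnit
      obtain ⟨r₁, hr₁⟩ := hr1
      refine ⟨v * (Units.map (algebraMap B C : B →* C) r₁)⁻¹, b' * ((r₁⁻¹ : Bˣ) : B) ^ p, ?_⟩
      have h3 : ((Units.map (algebraMap B C : B →* C) r₁)⁻¹ : Cˣ) =
          Units.map (algebraMap B C : B →* C) r₁⁻¹ := by rw [map_inv]
      rw [Units.val_mul, h3, Units.coe_map, MonoidHom.coe_coe, mul_pow, ← mul_assoc, h1, ← hr₁,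
        ← map_pow, ← map_mul, pow_one]
      have h4 : ((r₁ : B) ^ p + b' * π') * ((r₁⁻¹ : Bˣ) : B) ^ p =
          1 + b' * ((r₁⁻¹ : Bˣ) : B) ^ p * π' := by
        have h5 : (r₁ : B) ^ p * ((r₁⁻¹ : Bˣ) : B) ^ p = 1 := by
          rw [← mul_pow, Units.mul_inv, one_pow]
        linear_combination h5
      rw [h4, map_add, map_one]
    · -- the case `m ≥ 1`
      obtain ⟨k, rfl⟩ : ∃ k, m = k + 1 := ⟨m - 1, by omega⟩
      obtain ⟨β, hβ⟩ : ∃ β : B, β = 1 + b * π' ^ (k + 1) := ⟨_, rfl⟩
      have hvβ : algebraMap B C (u : B) * (v : C) ^ p = algebraMap B C β := by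
        rw [hvb, hβ, map_add, map_one]
      obtain ⟨G, hG⟩ : (1 - β) ∣ (1 ^ (k + 2) - β ^ (k + 2)) := sub_dvd_pow_sub_pow 1 β (k + 2)
      rw [one_pow] at hG
      set s : C := -(algebraMap B C r * ϖ ^ (k + 1) * (v : C) ^ (k + 1)) with hs
      have hsm : s ∈ maximalIdeal C := by
        rw [hs]
        apply Ideal.neg_mem_iff _ |>.mpr
        apply Ideal.mul_mem_right
        apply Ideal.mul_mem_left
        refine Ideal.pow_mem_of_mem _ ?_ _ (Nat.succ_pos k)
        rw [mem_maximalIdeal]
        intro hu'
        have hup : IsUnit (ϖ ^ p) := hu'.pow p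
        rw [hϖp, isUnit_map_iff] at hup
        have : IsUnit π' := by
          have := (IsUnit.mul_iff (x := (u : B)) (y := π')).mp hup
          exact this.2
        exact hπ'.not_isUnit this
      have hsu : IsUnit (1 + s) := by
        have := IsLocalRing.isUnit_one_sub_self_of_mem_nonunits (-s)
          ((mem_maximalIdeal _).mp ((Ideal.neg_mem_iff _).mpr hsm))
        rwa [sub_neg_eq_add] at this
      obtain ⟨su, hsu'⟩ := hsu
      have hsp : s ^ p = -algebraMap B C (r ^ p * π' ^ (k + 1) * β ^ (k + 1)) := by
        have e1 : (ϖ ^ (k + 1)) ^ p = (algebraMap B C ((u : B) * π')) ^ (k + 1) := by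
          rw [← pow_mul, mul_comm, pow_mul, hϖp]
        have e2 : ((v : C) ^ (k + 1)) ^ p = ((v : C) ^ p) ^ (k + 1) := by
          rw [← pow_mul, mul_comm, pow_mul]
        rw [hs, neg_pow, neg_one_pow_char C p, mul_pow, mul_pow, e1, e2]
        simp only [map_mul, map_pow]
        rw [← hvβ]
        ring
      refine ⟨v * su, b' - r ^ p * b * G * π' ^ k, ?_⟩
      rw [Units.val_mul, hsu', mul_pow, ← mul_assoc, hvβ, add_pow_char, one_pow, hsp, ← map_one
        (algebraMap B C), ← map_neg, ← map_add, ← map_mul, ← map_add]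
      congr 1
      have hβ' : β - 1 = b * π' ^ (k + 1) := by rw [hβ]; ring
      linear_combination (1 - r ^ p * π' ^ (k + 1) * G) * hβ' + π' ^ (k + 1) * hb +
        r ^ p * π' ^ (k + 1) * hG

end Seq

section Krull

variable {p : ℕ} {B C L M : Type u} [CommRing B] [IsDomain B] [IsDiscreteValuationRing B]
  [CommRing C] [IsDomain C] [IsDiscreteValuationRing C] [Algebra B C]
  [IsLocalHom (algebraMap B C)] [Field L] [Field M] [Algebra B L] [IsFractionRing B L]
  [Algebra C M] [IsFractionRing C M] [Algebra L M] [Algebra B M] [IsScalarTower B L M]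
  [IsScalarTower B C M] [IsPurelyInseparable L M]

set_option maxHeartbeats 1000000 in
/-- If `u⁻¹` is approximated to all orders by `p`-th powers of `C`, it is a `p`-th power of `C`
(`B` Nagata). -/
theorem exists_root_of_seq (hB : CAlg.IsNagata B) (hp : p.Prime)
    (hdeg : Module.finrank L M = p) {π' : B} (hπ' : Irreducible π') (u : Bˣ)
    (hseq : ∀ m : ℕ, ∃ (v : Cˣ) (b : B),
      algebraMap B C (u : B) * (v : C) ^ p = 1 + algebraMap B C (b * π' ^ m)) :
    ∃ θ : C, θ ^ p * algebraMap B C (u : B) = 1 := by
  classical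
  haveI : IsNoetherianRing B := hB.1
  haveI : FiniteDimensional L M := Module.finite_of_finrank_pos (by rw [hdeg]; exact hp.pos)
  haveI hLp : CharP L p := charP_of_finrank (M := M) hp hdeg
  haveI hMp : CharP M p := charP_of_injective_algebraMap (algebraMap L M).injective p
  have hψ : Function.Injective (algebraMap C M) := IsFractionRing.injective C M
  obtain ⟨a, ha⟩ : ∃ a : M, a = algebraMap B M ((u⁻¹ : Bˣ) : B) := ⟨_, rfl⟩
  have hau : a * algebraMap B M (u : B) = 1 := by
    rw [ha, ← map_mul, Units.inv_mul, map_one]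
  by_cases hroot : ∃ x : M, x ^ p = a
  · obtain ⟨x, hx⟩ := hroot
    have hxint : IsIntegral C x := by
      apply IsIntegral.of_pow hp.pos
      rw [hx, ha, IsScalarTower.algebraMap_apply B C M]
      exact isIntegral_algebraMap
    obtain ⟨θ, hθ⟩ := IsIntegrallyClosed.algebraMap_eq_of_integral hxint
    refine ⟨θ, ?_⟩
    apply hψ
    rw [map_mul, map_pow, hθ, hx, ← IsScalarTower.algebraMap_apply B C M, hau, map_one]
  · exfalso
    push Not at hroot
    have hirr : Irreducible (X ^ p - Polynomial.C a : M[X]) :=
      X_pow_sub_C_irreducible_of_prime hp hroot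
    haveI : Fact (Irreducible (X ^ p - Polynomial.C a : M[X])) := ⟨hirr⟩
    set M' := AdjoinRoot (X ^ p - Polynomial.C a : M[X]) with hM'
    obtain ⟨θ, hθ⟩ : ∃ θ : M', θ ^ p = algebraMap M M' a := by
      refine ⟨AdjoinRoot.root _, ?_⟩
      have h0 := AdjoinRoot.eval₂_root (X ^ p - Polynomial.C a : M[X])
      rw [eval₂_sub, eval₂_pow, eval₂_X, eval₂_C, sub_eq_zero] at h0
      exact h0
    haveI : Fact p.Prime := ⟨hp⟩
    haveI : CharP M' p := charP_of_injective_algebraMap (algebraMap M M').injective p
    haveI : Algebra.EssFiniteType B L :=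
      Algebra.EssFiniteType.of_isLocalization L (nonZeroDivisors B)
    haveI : Algebra.EssFiniteType B M := Algebra.EssFiniteType.comp B L M
    haveI : Algebra.EssFiniteType B M' := Algebra.EssFiniteType.comp B M M'
    haveI hfin : Module.Finite B (integralClosure B M') :=
      Groth.Agent.Lib.Helper48.finite_integralClosure_of_isNagata_of_essFiniteType_field hB
    have hCint : ∀ c : C, IsIntegral B (algebraMap M M' (algebraMap C M c)) := by
      intro c
      obtain ⟨b, hb⟩ := exists_pow_eq (B := B) (L := L) (M := M) hp hdeg c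
      apply IsIntegral.of_pow hp.pos
      rw [← map_pow, ← map_pow, ← hb, ← IsScalarTower.algebraMap_apply B C M,
        ← IsScalarTower.algebraMap_apply B M M']
      exact isIntegral_algebraMap
    have hθB : θ ^ p = algebraMap B M' ((u⁻¹ : Bˣ) : B) := by
      rw [hθ, IsScalarTower.algebraMap_apply B M M']
      exact congrArg (algebraMap M M') ha
    have hθint : IsIntegral B θ := by
      apply IsIntegral.of_pow hp.pos
      rw [hθB]
      exact isIntegral_algebraMap
    let g : C →ₗ[B] integralClosure B M' :=
      { toFun := fun c => ⟨algebraMap M M' (algebraMap C M c), hCint c⟩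
        map_add' := fun x y => Subtype.ext (by simp only [map_add]; rfl)
        map_smul' := fun b c => Subtype.ext (by
          rw [RingHom.id_apply]
          change algebraMap M M' (algebraMap C M (b • c)) =
            b • algebraMap M M' (algebraMap C M c)
          rw [Algebra.smul_def, Algebra.smul_def, map_mul, map_mul,
            ← IsScalarTower.algebraMap_apply B C M, ← IsScalarTower.algebraMap_apply B M M']) }
    let θD : integralClosure B M' := ⟨θ, hθint⟩
    have hπ0 : algebraMap B M' π' ≠ 0 := by
      intro h0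
      apply hπ'.ne_zero
      have hinjBM' : Function.Injective (algebraMap B M') := by
        rw [IsScalarTower.algebraMap_eq B M M', IsScalarTower.algebraMap_eq B L M]
        exact (algebraMap M M').injective.comp
          ((algebraMap L M).injective.comp (IsFractionRing.injective B L))
      exact hinjBM' (by rw [h0, map_zero])
    have key : ∀ k : ℕ, ∃ (c : C) (d : integralClosure B M'), θD = g c + (π' ^ k) • d := by
      intro k
      obtain ⟨v, b, hvb⟩ := hseq (k * p)
      set ιv : M' := algebraMap M M' (algebraMap C M (v : C)) with hιv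
      have hvb' : algebraMap B M' (u : B) * ιv ^ p = 1 + algebraMap B M' (b * π' ^ (k * p)) := by
        have := congrArg (fun c : C => algebraMap M M' (algebraMap C M c)) hvb
        simp only [map_mul, map_add, map_one, map_pow] at this
        rw [hιv, IsScalarTower.algebraMap_apply B M M', IsScalarTower.algebraMap_apply B C M,
          IsScalarTower.algebraMap_apply B M M', IsScalarTower.algebraMap_apply B C M]
        simp only [map_mul, map_pow]
        exact this
      have hθu : θ ^ p * algebraMap B M' (u : B) = 1 := by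
        rw [hθ, IsScalarTower.algebraMap_apply B M M', ← map_mul, hau, map_one]
      obtain ⟨z, hz⟩ : ∃ z : M', z = (θ - ιv) / algebraMap B M' (π' ^ k) := ⟨_, rfl⟩
      have hπk0 : algebraMap B M' (π' ^ k) ≠ 0 := by
        rw [map_pow]; exact pow_ne_zero _ hπ0
      have hzp : z ^ p = algebraMap B M' (-(((u⁻¹ : Bˣ) : B) * b)) := by
        rw [hz, div_pow, sub_pow_char, div_eq_iff (pow_ne_zero _ hπk0)]
        have hu1 : algebraMap B M' ((u⁻¹ : Bˣ) : B) * algebraMap B M' (u : B) = 1 := by
          rw [← map_mul, Units.inv_mul, map_one]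
        have h1 : ιv ^ p = algebraMap B M' ((u⁻¹ : Bˣ) : B) *
            (1 + algebraMap B M' (b * π' ^ (k * p))) := by
          rw [← hvb', ← mul_assoc, hu1, one_mul]
        rw [h1, hθB, pow_mul]
        simp only [map_mul, map_pow, map_neg]
        ring
      have hzint : IsIntegral B z := by
        apply IsIntegral.of_pow hp.pos
        rw [hzp]
        exact isIntegral_algebraMap
      refine ⟨(v : C), ⟨z, hzint⟩, Subtype.ext ?_⟩
      change θ = ιv + (π' ^ k) • z
      rw [Algebra.smul_def, hz, mul_div_cancel₀ _ hπk0]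
      ring
    -- Krull's intersection theorem
    set Q := integralClosure B M' ⧸ LinearMap.range g with hQ
    have hI : Ideal.span {π'} ≠ (⊤ : Ideal B) := by
      rw [Ne, Ideal.span_singleton_eq_top]
      exact hπ'.not_isUnit
    have hkrull := Ideal.iInf_pow_smul_eq_bot_of_isLocalRing (M := Q) (Ideal.span {π'}) hI
    have hmem : (LinearMap.range g).mkQ θD ∈
        (⨅ i : ℕ, Ideal.span {π'} ^ i • (⊤ : Submodule B Q)) := by
      rw [Submodule.mem_iInf]
      intro k
      obtain ⟨c, d, hcd⟩ := key k
      rw [hcd, map_add, map_smul]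
      have h0 : (LinearMap.range g).mkQ (g c) = 0 := by
        rw [Submodule.mkQ_apply, Submodule.Quotient.mk_eq_zero]
        exact LinearMap.mem_range_self g c
      rw [h0, zero_add]
      exact Submodule.smul_mem_smul
        (Ideal.pow_mem_pow (Ideal.mem_span_singleton_self π') k) Submodule.mem_top
    rw [hkrull, Submodule.mem_bot, Submodule.mkQ_apply, Submodule.Quotient.mk_eq_zero] at hmem
    obtain ⟨c, hc⟩ := hmem
    have hc' : algebraMap M M' (algebraMap C M c) = θ := congrArg Subtype.val hc
    apply hroot (algebraMap C M c)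
    apply (algebraMap M M').injective
    rw [map_pow, hc', hθ]

end Krull

section Dichotomy

variable {p : ℕ} {B C L M : Type u} [CommRing B] [IsDomain B] [IsDiscreteValuationRing B]
  [CommRing C] [IsDomain C] [IsDiscreteValuationRing C] [Algebra B C]
  [IsLocalHom (algebraMap B C)] [Field L] [Field M] [Algebra B L] [IsFractionRing B L]
  [Algebra C M] [IsFractionRing C M] [Algebra L M] [Algebra B M] [IsScalarTower B L M]
  [IsScalarTower B C M] [IsPurelyInseparable L M]

/-- either `u⁻¹` is a `p`-th power in `C`, or some `u v ^ p` has a first non-`p`-th-power digit. -/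
theorem dichotomy (hB : CAlg.IsNagata B) (hp : p.Prime)
    (hdeg : Module.finrank L M = p) {π' : B} (hπ' : Irreducible π') {ϖ : C} (u : Bˣ)
    (hϖp : ϖ ^ p = algebraMap B C ((u : B) * π')) :
    (∃ θ : C, θ ^ p * algebraMap B C (u : B) = 1) ∨
      ∃ (m : ℕ) (v : Cˣ) (b : B),
        algebraMap B C (u : B) * (v : C) ^ p = 1 + algebraMap B C (b * π' ^ m) ∧
          ∀ r : B, residue B b ≠ residue B r ^ p := by
  haveI hLp : CharP L p := charP_of_finrank (M := M) hp hdeg
  haveI hMp : CharP M p := charP_of_injective_algebraMap (algebraMap L M).injective p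
  haveI : CharP B p := RingHom.charP (algebraMap B L) (IsFractionRing.injective B L) p
  haveI : CharP C p := RingHom.charP (algebraMap C M) (IsFractionRing.injective C M) p
  by_cases h : ∃ (m : ℕ) (v : Cˣ) (b : B),
      algebraMap B C (u : B) * (v : C) ^ p = 1 + algebraMap B C (b * π' ^ m) ∧
        ∀ r : B, residue B b ≠ residue B r ^ p
  · exact Or.inr h
  · left
    push Not at h
    exact exists_root_of_seq (L := L) (M := M) hB hp hdeg hπ' u
      (exists_seq hp hπ' u hϖp h)

end Dichotomy

end Groth.Agent.Lib.Helper9.PInsep
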